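import Mathlib
import Groth.Prelude.Def_DualLC
import Groth.Agent.DimFormulaLib.Main
import Groth.Agent.S2669

/-! The cutoff invariant along a finite ring homomorphism from a universally catenary ring. -/

set_option autoImplicit false

universe u

namespace Groth.Agent.CutoffFinite

/-- The relative height of `p ≤ q` is the height of `q` in `A ⧸ p`. -/
theorem height_Ici_eq {A : Type u} [CommRing A] (p q : PrimeSpectrum A) (h : p ≤ q) :
    Order.height (⟨q, h⟩ : Set.Ici p) = (q.asIdeal.map (Ideal.Quotient.mk p.asIdeal)).height := by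
  haveI : (q.asIdeal.map (Ideal.Quotient.mk p.asIdeal)).IsPrime :=
    Ideal.map_isPrime_of_surjective Ideal.Quotient.mk_surjective (by rw [Ideal.mk_ker]; exact h)
  let e : PrimeSpectrum (A ⧸ p.asIdeal) ≃o Set.Ici p :=
    p.asIdeal.primeSpectrumQuotientOrderIsoZeroLocus.trans (OrderIso.setCongr _ _ (by
      ext r
      exact Iff.rfl))
  rw [PrimeSpectrum.height_eq_orderHeight ⟨_, inferInstance⟩, ← Order.height_orderIso e]
  congr 1
  apply Subtype.ext
  apply PrimeSpectrum.ext
  change q.asIdeal = (q.asIdeal.map (Ideal.Quotient.mk p.asIdeal)).comap _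
  rw [Ideal.comap_map_mk h]

variable {A B : Type u} [CommRing A] [CommRing B] [Algebra A B]

theorem comap_le_comap (A : Type u) {B : Type u} [CommRing A] [CommRing B] [Algebra A B]
    {P Q : PrimeSpectrum B} (h : P ≤ Q) :
    PrimeSpectrum.comap (algebraMap A B) P ≤ PrimeSpectrum.comap (algebraMap A B) Q :=
  Ideal.comap_mono h

/-- Relative heights are preserved by finite maps out of universally catenary rings. -/
theorem height_Ici_comap [IsNoetherianRing A] [Module.Finite A B]
    (hA : CAlg.IsUniversallyCatenary A) (P Q : PrimeSpectrum B) (h : P ≤ Q) :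
    Order.height (⟨Q, h⟩ : Set.Ici P) =
      Order.height (⟨PrimeSpectrum.comap (algebraMap A B) Q, comap_le_comap A h⟩ :
        Set.Ici (PrimeSpectrum.comap (algebraMap A B) P)) := by
  rw [height_Ici_eq P Q h, height_Ici_eq _ _ (comap_le_comap A h)]
  set p := PrimeSpectrum.comap (algebraMap A B) P with hp
  haveI : P.asIdeal.LiesOver p.asIdeal := ⟨rfl⟩
  haveI : (Q.asIdeal.map (Ideal.Quotient.mk P.asIdeal)).IsPrime :=
    Ideal.map_isPrime_of_surjective Ideal.Quotient.mk_surjective (by rw [Ideal.mk_ker]; exact h)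
  set q' := (PrimeSpectrum.comap (algebraMap A B) Q).asIdeal.map (Ideal.Quotient.mk p.asIdeal) with hq'
  set Q' := Q.asIdeal.map (Ideal.Quotient.mk P.asIdeal) with hQ'
  have hpq : p.asIdeal ≤ (PrimeSpectrum.comap (algebraMap A B) Q).asIdeal := comap_le_comap A h
  haveI : q'.IsPrime := Ideal.map_isPrime_of_surjective Ideal.Quotient.mk_surjective
    (by rw [Ideal.mk_ker]; exact hpq)
  haveI : Q'.LiesOver q' := by
    refine ⟨Ideal.comap_injective_of_surjective _ Ideal.Quotient.mk_surjective ?_⟩
    rw [hq', Ideal.comap_map_mk hpq, Ideal.under_def, Ideal.comap_comap,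
      ← Ideal.Quotient.algebraMap_eq, ← IsScalarTower.algebraMap_eq,
      IsScalarTower.algebraMap_eq A B (B ⧸ P.asIdeal), ← Ideal.comap_comap,
      Ideal.Quotient.algebraMap_eq, hQ', Ideal.comap_map_mk h]
    rfl
  haveI : Module.Finite A (B ⧸ P.asIdeal) := Module.Finite.trans B _
  haveI : Module.Finite (A ⧸ p.asIdeal) (B ⧸ P.asIdeal) :=
    Module.Finite.of_restrictScalars_finite A _ _
  haveI : Module.Finite ((A ⧸ p.asIdeal) ⧸ q') ((B ⧸ P.asIdeal) ⧸ Q') :=
    haveI : Module.Finite (A ⧸ p.asIdeal) ((B ⧸ P.asIdeal) ⧸ Q') :=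
      Module.Finite.trans (B ⧸ P.asIdeal) _
    Module.Finite.of_restrictScalars_finite (A ⧸ p.asIdeal) _ _
  obtain ⟨hq, hp', t', t, e1, e2, e3, e4, -, heq⟩ := DimFormulaLib.dim_formula q' Q'
  rw [trdeg_eq_zero] at e3 e4
  have ht' : t' = 0 := by exact_mod_cast e3.symm
  have ht : t = 0 := by exact_mod_cast e4.symm
  have := heq (DimFormulaLib.isUniversallyCatenary_of_finiteType hA)
  rw [e1, e2]
  exact_mod_cast (by omega : hq = hp')

/-- The cutoff is insensitive to finite maps out of a universally catenary ring. -/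
theorem cutoff_eq [IsNoetherianRing A] [IsNoetherianRing B] [Module.Finite A B]
    (hA : CAlg.IsUniversallyCatenary A) (I : Ideal A) (M : Type u) [AddCommGroup M] [Module B M]
    [Module A M] [IsScalarTower A B M] [Module.Finite B M] :
    Dual2.cutoff B (I.map (algebraMap A B)) M = Dual2.cutoff A I M := by
  haveI : Module.Finite A M := Module.Finite.trans B M
  refine le_antisymm ?_ ?_
  · refine le_iInf fun p => le_iInf fun q => le_iInf fun h => le_iInf fun hp => le_iInf fun hq => ?_
    rw [(Groth.Agent.S2669.result A B M p.asIdeal).2]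
    simp only [Set.mem_setOf_eq, iInf_subtype', ENat.iInf_add]
    refine le_iInf fun P => ?_
    obtain ⟨P, hPp, -⟩ := P
    obtain ⟨Q, hPQ, hQ, hQq⟩ := Ideal.exists_ideal_over_prime_of_isIntegral q.asIdeal P.asIdeal
      (by rw [hPp]; exact h)
    let Q' : PrimeSpectrum B := ⟨Q, hQ⟩
    have eP : PrimeSpectrum.comap (algebraMap A B) P = p := PrimeSpectrum.ext hPp
    have eQ : PrimeSpectrum.comap (algebraMap A B) Q' = q := PrimeSpectrum.ext hQq
    subst eP eQ
    refine iInf_le_of_le P (iInf_le_of_le Q' (iInf_le_of_le hPQ (iInf_le_of_le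
      (fun hle => hp (Ideal.map_le_iff_le_comap.mp hle))
      (iInf_le_of_le (Ideal.map_le_iff_le_comap.mpr hq) ?_))))
    exact (congrArg (_ + ·) (height_Ici_comap hA P Q' hPQ)).le
  · refine le_iInf fun P => le_iInf fun Q => le_iInf fun h => le_iInf fun hP => le_iInf fun hQ => ?_
    by_cases hs : P ∈ Module.support B M
    · refine iInf_le_of_le (PrimeSpectrum.comap (algebraMap A B) P) (iInf_le_of_le
        (PrimeSpectrum.comap (algebraMap A B) Q) (iInf_le_of_le (comap_le_comap A h) (iInf_le_of_le
          (fun hle => hP (Ideal.map_le_iff_le_comap.mpr hle))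
          (iInf_le_of_le (Ideal.map_le_iff_le_comap.mp hQ) ?_))))
      rw [height_Ici_comap hA P Q h]
      refine add_le_add ?_ le_rfl
      rw [(Groth.Agent.S2669.result A B M _).2]
      exact iInf₂_le P ⟨rfl, hs⟩
    · haveI : Subsingleton (LocalizedModule P.asIdeal.primeCompl M) := Module.notMem_support_iff.1 hs
      rw [CAlgBasics.depth_eq_top, top_add]
      exact le_top

end Groth.Agent.CutoffFinite
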